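import Mathlib
import Cfsg.Agent.SporadicA.M11Facts2

/-!
# The degrees of the irreducible characters of a simple group of order 7920
-/

set_option autoImplicit false

namespace Cfsg.Agent.H590.MElevenDeg

open Cfsg Cfsg.Agent.Characters.Core Cfsg.Agent.SporadicA.M11Block Cfsg.Agent.SporadicA.M11Rel
  Cfsg.Agent.SporadicA.M11Facts Cfsg.Agent.SporadicA.M11Three2 Cfsg.Agent.SporadicA.M11Norm3
  Cfsg.Agent.SporadicA.M11Cent
open scoped ComplexConjugate

universe u
variable {G : Type u} [Group G] [Finite G]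

/-- The ten degrees. -/
def deg10 : Fin 10 → ℕ := ![1, 10, 10, 10, 45, 16, 16, 11, 44, 55]

/-- arithmetic for the remaining characters -/
theorem arith_one {k : ℕ} {w : ℤ} (hk : 1 ≤ k) (hk6 : k ≤ 6) (h : (5 : ℤ) ∣ 11 * (k : ℤ) - w)
    (h1 : -1 ≤ w) (h2 : w ≤ 1) :
    (w = 1 ∧ (k = 1 ∨ k = 6)) ∨ (w = -1 ∧ k = 4) ∨ (w = 0 ∧ k = 5) := by
  interval_cases k <;> push_cast at h <;> omega

set_option maxHeartbeats 1000000 in
/-- There are exactly three further characters, of degrees 11, 44, 55. -/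
theorem exists_others (hG : Cfsg.IsM11 G) [Fintype (IrrCharacter G)] :
    ∃ (x : G) (v : Fin 7 → IrrCharacter G) (a b c : IrrCharacter G),
      IsB0 x v ![1, 10, 10, 10, 45, 16, 16] ![2, -2, -2, -2, 2, -1, -1] ∧
      (∀ χ, (∀ i, v i ≠ χ) ↔ χ = a ∨ χ = b ∨ χ = c) ∧
      (a : G → ℂ) 1 = 11 ∧ (b : G → ℂ) 1 = 44 ∧ (c : G → ℂ) 1 = 55 := by
  classical
  have := finite_irr (G := G)
  obtain ⟨x, hx, v, hB⟩ := exists_caseC hG
  obtain ⟨y, hy⟩ : ∃ y : G, orderOf y = 5 := by
    have : Fact (Nat.Prime 5) := ⟨by norm_num⟩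
    exact exists_prime_orderOf_dvd_card' 5 (by rw [hG.2]; norm_num)
  obtain ⟨w, hw, hmod, hw1⟩ := exists_five_values hy (isConj_five hG hy)
  have hn := fun χ : IrrCharacter G => isIrr_apply_one χ.2
  choose n hn0 hn1 using hn
  have hnz : ∀ χ : IrrCharacter G, (χ : G → ℂ) 1 = ((n χ : ℤ) : ℂ) := fun χ => by
    rw [hn1]; simp
  have hv0 : v 0 = triv G := Subtype.ext hB.one
  have m0 : n (v 0) = 1 := by exact_mod_cast (hn1 (v 0)).symm.trans (hB.degs 0)
  have m1 : n (v 1) = 10 := by exact_mod_cast (hn1 (v 1)).symm.trans (hB.degs 1)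
  have m2 : n (v 2) = 10 := by exact_mod_cast (hn1 (v 2)).symm.trans (hB.degs 2)
  have m3 : n (v 3) = 10 := by exact_mod_cast (hn1 (v 3)).symm.trans (hB.degs 3)
  have m4 : n (v 4) = 45 := by exact_mod_cast (hn1 (v 4)).symm.trans (hB.degs 4)
  have m5 : n (v 5) = 16 := by exact_mod_cast (hn1 (v 5)).symm.trans (hB.degs 5)
  have m6 : n (v 6) = 16 := by exact_mod_cast (hn1 (v 6)).symm.trans (hB.degs 6)
  have hy1 : ¬ IsConj (1 : G) y := by
    intro h
    have h2 : y = 1 := by
      obtain ⟨c, hc⟩ := isConj_iff.1 h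
      rw [← hc]; group
    rw [h2, orderOf_one] at hy
    omega
  have e1 := col_conj hw hw (IsConj.refl y)
  have e2 := col_not_conj hnz hw hy1
  have e6 := col_conj hnz hnz (IsConj.refl 1)
  have hc1 : Nat.card (Subgroup.centralizer ({1} : Set G)) = 7920 := by
    rw [Subgroup.centralizer_eq_top_iff_subset.2 (by
      rw [Set.singleton_subset_iff]; exact Subgroup.one_mem _), Subgroup.card_top, hG.2]
  rw [card_centralizer_five hG hy] at e1
  have hle : ∀ ψ : IrrCharacter G, w ψ * w ψ ≤ 5 := by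
    intro ψ
    have := Finset.single_le_sum (f := fun χ => w χ * w χ) (fun χ _ => mul_self_nonneg (w χ))
      (Finset.mem_univ ψ)
    rw [e1] at this
    exact_mod_cast this
  have hle2 : ∀ ψ : IrrCharacter G, -2 ≤ w ψ ∧ w ψ ≤ 2 := by
    intro ψ
    have h3 := hle ψ
    constructor <;> nlinarith
  have hz : ∀ ψ : IrrCharacter G, (5 : ℤ) ∣ n ψ → w ψ = 0 := by
    intro ψ h5
    have h1 := hmod ψ (n ψ) (hn1 ψ)
    have h3 := hle2 ψ
    omega
  have h16 : ∀ ψ : IrrCharacter G, n ψ = 16 → w ψ = 1 := by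
    intro ψ h5
    have h1 := hmod ψ (n ψ) (hn1 ψ)
    rw [h5] at h1
    have h3 := hle2 ψ
    push_cast at h1
    omega
  have w1 := hz (v 1) (by rw [m1]; norm_num)
  have w2 := hz (v 2) (by rw [m2]; norm_num)
  have w3 := hz (v 3) (by rw [m3]; norm_num)
  have w4 := hz (v 4) (by rw [m4]; norm_num)
  have w5 := h16 (v 5) m5
  have w6 := h16 (v 6) m6
  have w0 : w (v 0) = 1 := by rw [hv0, hw1]
  rw [sum_split hB.inj, Fin.sum_univ_seven] at e1 e2 e6
  rw [w0, w1, w2, w3, w4, w5, w6] at e1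
  rw [w0, w1, w2, w3, w4, w5, w6, m0, m1, m2, m3, m4, m5, m6] at e2
  rw [m0, m1, m2, m3, m4, m5, m6, hc1] at e6
  have g1 : ∑ χ ∈ others v, w χ * w χ = 2 := by push_cast at e1; linarith
  have g2 : ∑ χ ∈ others v, (n χ : ℤ) * w χ = -33 := by push_cast at e2; linarith
  have g6 : ∑ χ ∈ others v, (n χ : ℤ) * n χ = 5082 := by push_cast at e6; linarith
  -- the three possibilities
  have hcase : ∀ χ ∈ others v, (w χ = 1 ∧ (n χ = 11 ∨ n χ = 66)) ∨ (w χ = -1 ∧ n χ = 44) ∨
      (w χ = 0 ∧ n χ = 55) := by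
    intro χ hR
    obtain ⟨-, k, hk⟩ := hB.rest χ (mem_others.1 hR)
    have hk' : n χ = 11 * k := by
      rw [hn1] at hk
      exact_mod_cast hk
    have hk0 : 1 ≤ k := by
      rcases Nat.eq_zero_or_pos k with h | h
      · have := hn0 χ
        omega
      · exact h
    have b1 : w χ * w χ ≤ 2 := by
      rw [← g1]
      exact Finset.single_le_sum (f := fun χ => w χ * w χ) (fun χ _ => mul_self_nonneg (w χ)) hR
    have b6 : (n χ : ℤ) * n χ ≤ 5082 := by
      rw [← g6]
      exact Finset.single_le_sum (f := fun χ => (n χ : ℤ) * n χ)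
        (fun χ _ => mul_self_nonneg (n χ : ℤ)) hR
    have hk6 : k ≤ 6 := by
      rw [hk'] at b6
      push_cast at b6
      by_contra hcon
      push Not at hcon
      have : (7 : ℤ) ≤ k := by exact_mod_cast hcon
      nlinarith
    have hw1' : -1 ≤ w χ := by nlinarith
    have hw2' : w χ ≤ 1 := by nlinarith
    have h1 := hmod χ (n χ) (hn1 χ)
    rw [hk'] at h1
    push_cast at h1
    rcases arith_one hk0 hk6 h1 hw1' hw2' with ⟨h, h'⟩ | ⟨h, h'⟩ | ⟨h, h'⟩
    · left; exact ⟨h, by omega⟩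
    · right; left; exact ⟨h, by omega⟩
    · right; right; exact ⟨h, by omega⟩
  obtain ⟨A, hA⟩ : ∃ A, A = (others v).filter (fun χ => w χ = 1) := ⟨_, rfl⟩
  obtain ⟨B, hB'⟩ : ∃ B, B = (others v).filter (fun χ => w χ = -1) := ⟨_, rfl⟩
  obtain ⟨C, hC⟩ : ∃ C, C = (others v).filter (fun χ => w χ = 0) := ⟨_, rfl⟩
  have hsplit : ∀ F : IrrCharacter G → ℤ, ∑ χ ∈ others v, F χ =
      ∑ χ ∈ A, F χ + ∑ χ ∈ B, F χ + ∑ χ ∈ C, F χ := by
    intro F
    rw [hA, hB', hC, Finset.sum_filter, Finset.sum_filter, Finset.sum_filter,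
      ← Finset.sum_add_distrib, ← Finset.sum_add_distrib]
    refine Finset.sum_congr rfl fun χ hχ => ?_
    rcases hcase χ hχ with ⟨h, -⟩ | ⟨h, -⟩ | ⟨h, -⟩ <;> simp [h]
  have wA : ∀ χ ∈ A, w χ = 1 := fun χ h => by rw [hA] at h; exact (Finset.mem_filter.1 h).2
  have wB : ∀ χ ∈ B, w χ = -1 := fun χ h => by rw [hB'] at h; exact (Finset.mem_filter.1 h).2
  have wC : ∀ χ ∈ C, w χ = 0 := fun χ h => by rw [hC] at h; exact (Finset.mem_filter.1 h).2
  have nA : ∀ χ ∈ A, n χ = 11 ∨ n χ = 66 := fun χ h => by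
    have h1 := wA χ h
    rw [hA] at h
    have h2 := hcase χ (Finset.mem_filter.1 h).1
    omega
  have nB : ∀ χ ∈ B, n χ = 44 := fun χ h => by
    have h1 := wB χ h
    rw [hB'] at h
    have h2 := hcase χ (Finset.mem_filter.1 h).1
    omega
  have nC : ∀ χ ∈ C, n χ = 55 := fun χ h => by
    have h1 := wC χ h
    rw [hC] at h
    have h2 := hcase χ (Finset.mem_filter.1 h).1
    omega
  have s1 : (A.card : ℤ) + B.card = 2 := by
    rw [hsplit, Finset.sum_congr rfl (fun χ h => by rw [wA χ h] : ∀ χ ∈ A, w χ * w χ = 1 * 1),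
      Finset.sum_congr rfl (fun χ h => by rw [wB χ h] : ∀ χ ∈ B, w χ * w χ = -1 * -1),
      Finset.sum_congr rfl (fun χ h => by rw [wC χ h] : ∀ χ ∈ C, w χ * w χ = 0 * 0)] at g1
    simpa using g1
  have s2 : (∑ χ ∈ A, (n χ : ℤ)) - 44 * B.card = -33 := by
    rw [hsplit, Finset.sum_congr rfl (fun χ h => by rw [wA χ h, mul_one] :
        ∀ χ ∈ A, (n χ : ℤ) * w χ = n χ),
      Finset.sum_congr rfl (fun χ h => by rw [wB χ h, nB χ h]; norm_num :
        ∀ χ ∈ B, (n χ : ℤ) * w χ = -44),
      Finset.sum_congr rfl (fun χ h => by rw [wC χ h, mul_zero] :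
        ∀ χ ∈ C, (n χ : ℤ) * w χ = 0)] at g2
    simp at g2
    linarith
  have s6 : (∑ χ ∈ A, (n χ : ℤ) * n χ) + 1936 * B.card + 3025 * C.card = 5082 := by
    rw [hsplit,
      Finset.sum_congr rfl (fun χ h => by rw [nB χ h]; norm_num :
        ∀ χ ∈ B, (n χ : ℤ) * n χ = 1936),
      Finset.sum_congr rfl (fun χ h => by rw [nC χ h]; norm_num :
        ∀ χ ∈ C, (n χ : ℤ) * n χ = 3025)] at g6
    simp at g6
    linarith
  have hAnn : 0 ≤ ∑ χ ∈ A, (n χ : ℤ) := Finset.sum_nonneg fun χ _ => Int.natCast_nonneg _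
  have hB1 : B.card = 1 := by
    rcases Nat.lt_trichotomy B.card 1 with h | h | h
    · have : B.card = 0 := by omega
      rw [this] at s2
      push_cast at s2
      omega
    · exact h
    · have h2 : B.card = 2 := by omega
      have h0 : A.card = 0 := by omega
      rw [Finset.card_eq_zero.1 h0, h2] at s2
      simp at s2
  have hA1 : A.card = 1 := by omega
  obtain ⟨a, ha⟩ := Finset.card_eq_one.1 hA1
  obtain ⟨b, hb⟩ := Finset.card_eq_one.1 hB1
  have na : n a = 11 := by
    rw [ha, hB1] at s2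
    simp at s2
    omega
  have hC1 : C.card = 1 := by
    rw [ha, hB1, Finset.sum_singleton, na] at s6
    push_cast at s6
    omega
  obtain ⟨c, hc⟩ := Finset.card_eq_one.1 hC1
  have nb : n b = 44 := nB b (by rw [hb]; exact Finset.mem_singleton_self b)
  have nc : n c = 55 := nC c (by rw [hc]; exact Finset.mem_singleton_self c)
  refine ⟨x, v, a, b, c, hB, ?_, ?_, ?_, ?_⟩
  · intro χ
    rw [← mem_others]
    constructor
    · intro hχ
      rcases hcase χ hχ with ⟨h, -⟩ | ⟨h, -⟩ | ⟨h, -⟩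
      · left
        have : χ ∈ A := by rw [hA]; exact Finset.mem_filter.2 ⟨hχ, h⟩
        rw [ha] at this
        exact Finset.mem_singleton.1 this
      · right; left
        have : χ ∈ B := by rw [hB']; exact Finset.mem_filter.2 ⟨hχ, h⟩
        rw [hb] at this
        exact Finset.mem_singleton.1 this
      · right; right
        have : χ ∈ C := by rw [hC]; exact Finset.mem_filter.2 ⟨hχ, h⟩
        rw [hc] at this
        exact Finset.mem_singleton.1 this
    · rintro (rfl | rfl | rfl)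
      · have : χ ∈ A := by rw [ha]; exact Finset.mem_singleton_self _
        rw [hA] at this
        exact (Finset.mem_filter.1 this).1
      · have : χ ∈ B := by rw [hb]; exact Finset.mem_singleton_self _
        rw [hB'] at this
        exact (Finset.mem_filter.1 this).1
      · have : χ ∈ C := by rw [hc]; exact Finset.mem_singleton_self _
        rw [hC] at this
        exact (Finset.mem_filter.1 this).1
  · rw [hn1, na]; norm_num
  · rw [hn1, nb]; norm_num
  · rw [hn1, nc]; norm_num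

/-- The ten irreducible characters with their degrees. -/
theorem exists_equiv (hG : Cfsg.IsM11 G) :
    ∃ e : Fin 10 ≃ IrrCharacter G, ∀ i, (e i : G → ℂ) 1 = deg10 i := by
  classical
  have := finite_irr (G := G)
  have := Fintype.ofFinite (IrrCharacter G)
  obtain ⟨x, v, a, b, c, hB, hoth, ha, hb, hc⟩ := exists_others hG
  let f : Fin 10 → IrrCharacter G := ![v 0, v 1, v 2, v 3, v 4, v 5, v 6, a, b, c]
  have hdeg : ∀ i, (f i : G → ℂ) 1 = deg10 i := by
    intro i
    have h0 := hB.degs 0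
    have h1 := hB.degs 1
    have h2 := hB.degs 2
    have h3 := hB.degs 3
    have h4 := hB.degs 4
    have h5 := hB.degs 5
    have h6 := hB.degs 6
    fin_cases i
    · exact h0
    · exact h1
    · exact h2
    · exact h3
    · exact h4
    · exact h5
    · exact h6
    · show (a : G → ℂ) 1 = ((11 : ℕ) : ℂ)
      rw [ha]; norm_num
    · show (b : G → ℂ) 1 = ((44 : ℕ) : ℂ)
      rw [hb]; norm_num
    · show (c : G → ℂ) 1 = ((55 : ℕ) : ℂ)
      rw [hc]; norm_num
  have hva : ∀ i, v i ≠ a := (hoth a).2 (Or.inl rfl)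
  have hvb : ∀ i, v i ≠ b := (hoth b).2 (Or.inr (Or.inl rfl))
  have hvc : ∀ i, v i ≠ c := (hoth c).2 (Or.inr (Or.inr rfl))
  have hab : a ≠ b := by rintro rfl; rw [ha] at hb; norm_num at hb
  have hac : a ≠ c := by rintro rfl; rw [ha] at hc; norm_num at hc
  have hbc : b ≠ c := by rintro rfl; rw [hb] at hc; norm_num at hc
  have hsurj : Function.Surjective f := by
    intro χ
    by_cases h : ∀ i, v i ≠ χ
    · rcases (hoth χ).1 h with rfl | rfl | rfl
      · exact ⟨7, rfl⟩
      · exact ⟨8, rfl⟩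
      · exact ⟨9, rfl⟩
    · push Not at h
      obtain ⟨i, rfl⟩ := h
      fin_cases i
      · exact ⟨0, rfl⟩
      · exact ⟨1, rfl⟩
      · exact ⟨2, rfl⟩
      · exact ⟨3, rfl⟩
      · exact ⟨4, rfl⟩
      · exact ⟨5, rfl⟩
      · exact ⟨6, rfl⟩
  have hinj : Function.Injective f := by
    have hcard : Fintype.card (IrrCharacter G) = 10 := by
      have hu : (Finset.univ : Finset (IrrCharacter G)) =
          Finset.univ.image v ∪ {a, b, c} := by
        ext χ
        simp only [Finset.mem_univ, Finset.mem_union, Finset.mem_image, true_and,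
          Finset.mem_insert, Finset.mem_singleton, true_iff]
        by_cases h : ∀ i, v i ≠ χ
        · right; exact (hoth χ).1 h
        · left; push Not at h; exact h
      rw [← Finset.card_univ, hu, Finset.card_union_of_disjoint, Finset.card_image_of_injective _
        hB.inj, Finset.card_univ, Fintype.card_fin, Finset.card_eq_three.2
          ⟨a, b, c, hab, hac, hbc, rfl⟩]
      rw [Finset.disjoint_left]
      intro χ h1 h2
      obtain ⟨i, -, rfl⟩ := Finset.mem_image.1 h1
      simp only [Finset.mem_insert, Finset.mem_singleton] at h2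
      rcases h2 with h | h | h
      · exact hva i h
      · exact hvb i h
      · exact hvc i h
    exact ((Fintype.bijective_iff_surjective_and_card f).2
      ⟨hsurj, by rw [hcard, Fintype.card_fin]⟩).1
  exact ⟨Equiv.ofBijective f ⟨hinj, hsurj⟩, hdeg⟩

end Cfsg.Agent.H590.MElevenDeg
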