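import Mathlib
import Cfsg.Prelude.Def_Blocks
import Cfsg.Prelude.Def_Local
import Cfsg.Agent.Characters.Core
import Cfsg.Agent.Characters.CCBasic
import Cfsg.Agent.Blocks.Basic
import Cfsg.Agent.Blocks.Local
import Cfsg.Agent.Blocks.PrincipalInflate
import Cfsg.Agent.H611.CoverPrincipal
import Cfsg.Agent.S0887
import Cfsg.Agent.S0188
import Cfsg.Agent.S0944
import Cfsg.Agent.S0947

/-!
# Groups all of whose characters in the principal 2-block have odd degree

`AllOdd M G`: all characters in the principal block of `G` have odd degree.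

* `AllOdd.of_surjective`: passes from a quotient by a normal subgroup of odd order;
* `AllOdd.of_normal`: passes from a normal subgroup of odd index;
* `AllOdd.prod`: direct products;
* `allOdd_of_comm`: abelian groups;
* `allOdd_of_four`: Sylow 2-subgroups of order 4, some involution with a 2-nilpotent centralizer.
-/

set_option autoImplicit false

namespace Cfsg.Agent.H590.OddPrincipal

open Cfsg Cfsg.Agent Cfsg.Agent.Blocks
open scoped ComplexConjugate

variable {M : Ideal AlgInt}

/-- All characters in the principal block have odd degree. -/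
def AllOdd (M : Ideal AlgInt) (G : Type*) [Group G] : Prop :=
  ∀ χ ∈ principalBlock M G, Odd (charDegree (χ : G → ℂ))

theorem allOdd_def {G : Type*} [Group G] :
    AllOdd M G ↔ ∀ χ ∈ principalBlock M G, Odd (charDegree (χ : G → ℂ)) := Iff.rfl

/-- Quotients by normal subgroups of odd order. -/
theorem AllOdd.of_surjective (hM : IsPModular 2 M) {H C : Type*} [Group H] [Finite H] [Group C]
    [Finite C] {π : H →* C} (hπ : Function.Surjective π) (hN : Odd (Nat.card π.ker))
    (h : AllOdd M C) : AllOdd M H := by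
  intro χ hχ
  have hN' : ¬ 2 ∣ Nat.card π.ker := by
    intro h2
    exact (Nat.not_even_iff_odd.2 hN) (even_iff_two_dvd.2 h2)
  obtain ⟨ψ, hψ, he⟩ := PrincipalInflate.exists_comp hM hπ hN' hχ
  have h1 : charDegree (χ : H → ℂ) = charDegree (ψ : C → ℂ) := by
    apply Basic.charDegree_of_eq
    rw [he]
    simp only [map_one]
    exact Basic.irr_one_eq_charDegree ψ.2
  rw [h1]
  exact h ψ hψ

/-- Isomorphic groups. -/
theorem AllOdd.congr (hM : IsPModular 2 M) {H C : Type*} [Group H] [Finite H] [Group C]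
    [Finite C] (e : H ≃* C) (h : AllOdd M C) : AllOdd M H := by
  refine AllOdd.of_surjective hM (π := e.toMonoidHom) e.surjective ?_ h
  have h1 : e.toMonoidHom.ker = ⊥ := (MonoidHom.ker_eq_bot_iff _).2 e.injective
  rw [h1, Subgroup.card_bot]
  exact odd_one

/-- an irreducible constituent of the restriction -/
theorem exists_under {G : Type*} [Group G] [Finite G] (N : Subgroup G) [Fintype N]
    (χ : IrrCharacter G) :
    ∃ θ : IrrCharacter N, classInner (fun n : N => (χ : G → ℂ) n) (θ : N → ℂ) ≠ 0 := by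
  classical
  have := Characters.Core.finite_irr (G := N)
  have := Fintype.ofFinite (IrrCharacter N)
  have h1 : IsCharacter N (fun n : N => (χ : G → ℂ) n) :=
    Characters.Core.isCharacter_comp N.subtype (Characters.Core.isIrr_isCharacter χ.2)
  obtain ⟨m, hm⟩ := Characters.Core.exists_nat_comb h1
  by_contra hcon
  push Not at hcon
  have h2 : ∀ θ : IrrCharacter N, m θ = 0 := by
    intro θ
    have := hcon θ
    rw [hm, Characters.Core.classInner_sum_nsmul_irr] at this
    exact_mod_cast this
  have h3 : (χ : G → ℂ) 1 = 0 := by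
    have h4 := congrFun hm 1
    simp only [h2, zero_smul, Finset.sum_const_zero, Pi.zero_apply, OneMemClass.coe_one] at h4
    exact h4
  exact Basic.irr_one_ne_zero χ.2 h3

/-- Normal subgroups of odd index. -/
theorem AllOdd.of_normal (hM : IsPModular 2 M) {G : Type*} [Group G] [Finite G] (N : Subgroup G)
    [N.Normal] (hidx : Odd N.index) (h : AllOdd M N) : AllOdd M G := by
  classical
  have := Fintype.ofFinite G
  have := Fintype.ofFinite N
  intro χ hχ
  obtain ⟨θ, hθ⟩ := exists_under N χ
  have h1 := H611.CoverPrincipal.mem_principalBlock_of_over 2 hM N χ θ hθ hχ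
  obtain ⟨h2, h3⟩ := S0887.result N (χ : G → ℂ) χ.2 (θ : N → ℂ) θ.2 hθ
    (charDegree (χ : G → ℂ)) (charDegree (θ : N → ℂ)) (Basic.irr_one_eq_charDegree χ.2)
    (Basic.irr_one_eq_charDegree θ.2)
  obtain ⟨c, hc⟩ := h2
  have hpos := Basic.charDegree_pos θ.2
  rw [hc, Nat.mul_div_cancel_left _ hpos] at h3
  rw [hc]
  exact (h θ h1).mul (Odd.of_dvd_nat hidx h3)

/-- Central characters of a product at elements of the first factor. -/
theorem index_centralizer_prod {A B : Type*} [Group A] [Group B] [Finite A] [Finite B] (a : A) :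
    (Subgroup.centralizer ({(a, (1 : B))} : Set (A × B))).index =
      (Subgroup.centralizer ({a} : Set A)).index := by
  rw [Basic.index_centralizer_eq_ncard, Basic.index_centralizer_eq_ncard]
  have h : {x : A × B | IsConj (a, (1 : B)) x} = (fun y : A => (y, (1 : B))) '' {y : A | IsConj a y} := by
    ext ⟨x, y⟩
    simp only [Set.mem_ofPred_eq, Set.mem_image, Prod.mk.injEq]
    rw [isConj_iff]
    constructor
    · rintro ⟨⟨c, d⟩, h⟩
      simp only [Prod.mk_mul_mk, mul_one, Prod.inv_mk, Prod.mk.injEq, mul_inv_cancel] at h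
      exact ⟨c * a * c⁻¹, isConj_iff.2 ⟨c, rfl⟩, h.1, h.2⟩
    · rintro ⟨z, hz, rfl, rfl⟩
      obtain ⟨c, hc⟩ := isConj_iff.1 hz
      refine ⟨(c, 1), ?_⟩
      simp [hc]
  rw [h, Set.ncard_image_of_injective]
  intro x y hxy
  exact (Prod.mk.inj hxy).1

/-- The factors of a character in the principal block of a direct product. -/
theorem mem_of_prod {A B : Type*} [Group A] [Group B] [Finite A] [Finite B]
    {χ : IrrCharacter (A × B)} (hχ : χ ∈ principalBlock M (A × B)) {φ : IrrCharacter A}
    {ψ : IrrCharacter B} (h : (χ : A × B → ℂ) = fun x => (φ : A → ℂ) x.1 * (ψ : B → ℂ) x.2) :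
    φ ∈ principalBlock M A := by
  intro a
  have h1 := hχ (a, 1)
  have h2 : centralChar (χ : A × B → ℂ) (a, 1) = centralChar (φ : A → ℂ) a := by
    rw [Basic.centralChar_def, Basic.centralChar_def, index_centralizer_prod, h]
    simp only [Prod.fst_one, Prod.snd_one]
    have h3 := Basic.irr_one_ne_zero ψ.2
    rw [← mul_assoc, mul_div_mul_right _ _ h3]
  have h4 : centralChar (fun _ : A × B => (1 : ℂ)) (a, 1) = centralChar (fun _ : A => (1 : ℂ)) a := by
    rw [Basic.centralChar_def, Basic.centralChar_def, index_centralizer_prod]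
  rw [h2] at h1
  have h5 : centralChar (fun _ : A × B => (1 : ℂ)) (a, 1) = centralChar (fun _ : A => (1 : ℂ)) a := h4
  rw [h5] at h1
  exact h1

theorem index_centralizer_prod' {A B : Type*} [Group A] [Group B] [Finite A] [Finite B] (b : B) :
    (Subgroup.centralizer ({((1 : A), b)} : Set (A × B))).index =
      (Subgroup.centralizer ({b} : Set B)).index := by
  rw [Basic.index_centralizer_eq_ncard, Basic.index_centralizer_eq_ncard]
  have h : {x : A × B | IsConj ((1 : A), b) x} = (fun y : B => ((1 : A), y)) '' {y : B | IsConj b y} := by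
    ext ⟨x, y⟩
    simp only [Set.mem_ofPred_eq, Set.mem_image, Prod.mk.injEq]
    rw [isConj_iff]
    constructor
    · rintro ⟨⟨c, d⟩, h⟩
      simp only [Prod.mk_mul_mk, mul_one, Prod.inv_mk, Prod.mk.injEq, mul_inv_cancel] at h
      exact ⟨d * b * d⁻¹, isConj_iff.2 ⟨d, rfl⟩, h.1, h.2⟩
    · rintro ⟨z, hz, rfl, rfl⟩
      obtain ⟨c, hc⟩ := isConj_iff.1 hz
      refine ⟨(1, c), ?_⟩
      simp [hc]
  rw [h, Set.ncard_image_of_injective]
  intro x y hxy
  exact (Prod.mk.inj hxy).2

theorem mem_of_prod' {A B : Type*} [Group A] [Group B] [Finite A] [Finite B]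
    {χ : IrrCharacter (A × B)} (hχ : χ ∈ principalBlock M (A × B)) {φ : IrrCharacter A}
    {ψ : IrrCharacter B} (h : (χ : A × B → ℂ) = fun x => (φ : A → ℂ) x.1 * (ψ : B → ℂ) x.2) :
    ψ ∈ principalBlock M B := by
  intro b
  have h1 := hχ (1, b)
  have h2 : centralChar (χ : A × B → ℂ) (1, b) = centralChar (ψ : B → ℂ) b := by
    rw [Basic.centralChar_def, Basic.centralChar_def, index_centralizer_prod', h]
    simp only [Prod.fst_one, Prod.snd_one]
    have h3 := Basic.irr_one_ne_zero φ.2
    field_simp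
  have h4 : centralChar (fun _ : A × B => (1 : ℂ)) (1, b) = centralChar (fun _ : B => (1 : ℂ)) b := by
    rw [Basic.centralChar_def, Basic.centralChar_def, index_centralizer_prod']
  rw [h2] at h1
  have h5 : centralChar (fun _ : A × B => (1 : ℂ)) (1, b) = centralChar (fun _ : B => (1 : ℂ)) b := h4
  rw [h5] at h1
  exact h1

/-- Direct products. -/
theorem AllOdd.prod {A B : Type*} [Group A] [Group B] [Finite A] [Finite B] (hA : AllOdd M A)
    (hB : AllOdd M B) : AllOdd M (A × B) := by
  intro χ hχ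
  obtain ⟨φ, ψ, hφ, hψ, h⟩ := (S0188.result (χ : A × B → ℂ)).1 χ.2
  have h1 := hA ⟨φ, hφ⟩ (mem_of_prod (φ := ⟨φ, hφ⟩) (ψ := ⟨ψ, hψ⟩) hχ h)
  have h2 := hB ⟨ψ, hψ⟩ (mem_of_prod' (φ := ⟨φ, hφ⟩) (ψ := ⟨ψ, hψ⟩) hχ h)
  have h3 : charDegree (χ : A × B → ℂ) = charDegree φ * charDegree ψ := by
    apply Basic.charDegree_of_eq
    rw [h]
    push_cast
    simp only [Prod.fst_one, Prod.snd_one]
    rw [Basic.irr_one_eq_charDegree hφ, Basic.irr_one_eq_charDegree hψ]
  rw [h3]
  exact h1.mul h2

/-- Abelian groups. -/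
theorem allOdd_of_comm {A : Type*} [Group A] [Finite A] (hc : ∀ a b : A, a * b = b * a) :
    AllOdd M A := by
  intro χ _
  have h : charDegree (χ : A → ℂ) = 1 := by
    apply Basic.charDegree_of_eq
    rw [Nat.cast_one]
    exact Characters.CCBasic.irr_apply_one_of_comm hc χ.2
  rw [h]
  exact odd_one

/-- Commuting subgroups with trivial intersection. -/
theorem AllOdd.sup (hM : IsPModular 2 M) {G : Type*} [Group G] [Finite G] {A B : Subgroup G}
    (hc : A ≤ Subgroup.centralizer (B : Set G)) (hd : A ⊓ B = ⊥) (hA : AllOdd M A)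
    (hB : AllOdd M B) : AllOdd M ↥(A ⊔ B) := by
  have hcomm : ∀ (a : A) (b : B), Commute (A.subtype a) (B.subtype b) := by
    intro a b
    exact ((Subgroup.mem_centralizer_iff.1 (hc a.2)) b b.2).symm
  let f : A × B →* G := MonoidHom.noncommCoprod A.subtype B.subtype hcomm
  have hf : ∀ x : A × B, f x = (x.1 : G) * (x.2 : G) := fun x => rfl
  have hinj : Function.Injective f := by
    rw [← MonoidHom.ker_eq_bot_iff, eq_bot_iff]
    rintro ⟨a, b⟩ hx
    rw [MonoidHom.mem_ker, hf] at hx
    have h1 : (a : G) = (b : G)⁻¹ := mul_eq_one_iff_eq_inv.1 hx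
    have h2 : (a : G) ∈ A ⊓ B := ⟨a.2, h1 ▸ B.inv_mem b.2⟩
    rw [hd, Subgroup.mem_bot] at h2
    rw [h2] at h1
    have h3 : (b : G) = 1 := by
      rw [← inv_inv (b : G), ← h1, inv_one]
    rw [Subgroup.mem_bot, Prod.mk_eq_one]
    exact ⟨Subtype.ext h2, Subtype.ext h3⟩
  have hrange : f.range = A ⊔ B := by
    apply le_antisymm
    · rintro _ ⟨x, rfl⟩
      rw [hf]
      exact mul_mem (Subgroup.mem_sup_left x.1.2) (Subgroup.mem_sup_right x.2.2)
    · refine sup_le ?_ ?_
      · intro a ha
        exact ⟨(⟨a, ha⟩, 1), by rw [hf]; simp⟩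
      · intro b hb
        exact ⟨(1, ⟨b, hb⟩), by rw [hf]; simp⟩
  have e : A × B ≃* ↥(A ⊔ B) :=
    (MonoidHom.ofInjective hinj).trans (MulEquiv.subgroupCongr hrange)
  exact AllOdd.congr hM e.symm (hA.prod hB)

/-- The characters of the principal block do not vanish at elements whose centralizers have odd
index. -/
theorem apply_ne_zero {p : ℕ} (hM : IsPModular p M) {G : Type*} [Group G] [Finite G] {z : G}
    (hc : ¬ p ∣ (Subgroup.centralizer ({z} : Set G)).index) {χ : IrrCharacter G}
    (hχ : χ ∈ principalBlock M G) : (χ : G → ℂ) z ≠ 0 := by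
  intro h0
  have h1 := hχ z
  have h2 : centralChar (χ : G → ℂ) z = 0 := by
    rw [Basic.centralChar_def, h0, mul_zero, zero_div]
  have h3 : centralChar (fun _ : G => (1 : ℂ)) z =
      ((Subgroup.centralizer ({z} : Set G)).index : ℂ) := by
    rw [Basic.centralChar_def, mul_one, div_one]
  have h4 : MemLocalIdeal M (centralChar (fun _ : G => (1 : ℂ)) z - centralChar (χ : G → ℂ) z) := h1
  rw [h2, h3, sub_zero] at h4
  exact hc ((Local.memLocalIdeal_natCast_iff hM _).1 h4)

/-- A sum over a set as a filtered sum. -/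
theorem finsum_mem_eq_filter {ι R : Type*} [Fintype ι] [AddCommMonoid R] (B : Set ι)
    [DecidablePred (· ∈ B)] (f : ι → R) : ∑ᶠ i ∈ B, f i = ∑ i with i ∈ B, f i := by
  rw [finsum_mem_def, finsum_eq_sum_of_fintype, Finset.sum_filter]
  exact Finset.sum_congr rfl fun i _ => by rw [Set.indicator_apply]

/-- **Column of an involution** with a 2-nilpotent centralizer. -/
theorem exists_column (hM : IsPModular 2 M) {G : Type*} [Group G] [Finite G]
    [Fintype (IrrCharacter G)] [DecidablePred (· ∈ principalBlock M G)] {z : G}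
    (hz : orderOf z = 2)
    (hnc : ∃ k : ℕ, (pPrimeCore 2 (Subgroup.centralizer ({z} : Set G))).index = 2 ^ k) :
    ∃ a : IrrCharacter G → ℤ, (∀ χ : IrrCharacter G, (χ : G → ℂ) z = a χ ∧
      (2 : ℤ) ∣ (charDegree (χ : G → ℂ) : ℤ) - a χ) ∧
      ∑ χ : IrrCharacter G with χ ∈ principalBlock M G, a χ ^ 2 =
        2 ^ (Nat.card (Subgroup.centralizer ({z} : Set G))).factorization 2 := by
  classical
  choose a ha using fun χ : IrrCharacter G => S0944.result χ z hz
  refine ⟨a, ha, ?_⟩
  have hz1 : z ≠ 1 := by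
    rintro rfl
    simp at hz
  have h1 := (S0947.result 2 M hM z ⟨1, by rw [hz, pow_one]⟩ hz1 1
    (by rw [orderOf_one]; norm_num)).2 hnc
  rw [finsum_mem_eq_filter] at h1
  have h2 : ∀ χ : IrrCharacter G, ‖(χ : G → ℂ) (z * ((1 : Subgroup.centralizer ({z} : Set G)) : G))‖ ^ 2 =
      ((a χ ^ 2 : ℤ) : ℝ) := by
    intro χ
    rw [OneMemClass.coe_one, mul_one, (ha χ).1, Complex.norm_intCast, sq_abs]
    push_cast
    rfl
  rw [Finset.sum_congr rfl fun χ _ => h2 χ] at h1
  exact_mod_cast h1

/-- The principal character. -/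
def one (G : Type*) [Group G] : IrrCharacter G := ⟨fun _ => 1, Basic.isIrrCharacter_one⟩

theorem one_mem (hM : IsPModular 2 M) (G : Type*) [Group G] : one G ∈ principalBlock M G := by
  have := Local.isPrime_of_isPModular hM
  exact Basic.mem_blockOf_self (M := M) (one G)

/-- Sylow 2-subgroups of order 4. -/
theorem allOdd_of_four (hM : IsPModular 2 M) {G : Type*} [Group G] [Finite G] {z : G}
    (hz : orderOf z = 2) (hc : ¬ 2 ∣ (Subgroup.centralizer ({z} : Set G)).index)
    (h4 : (Nat.card (Subgroup.centralizer ({z} : Set G))).factorization 2 = 2)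
    (hnc : ∃ k : ℕ, (pPrimeCore 2 (Subgroup.centralizer ({z} : Set G))).index = 2 ^ k) :
    AllOdd M G := by
  classical
  have := Characters.Core.finite_irr (G := G)
  have := Fintype.ofFinite (IrrCharacter G)
  obtain ⟨a, ha, hsum⟩ := exists_column hM hz hnc
  rw [h4] at hsum
  intro χ hχ
  by_cases h1 : χ = one G
  · have h2 : charDegree (χ : G → ℂ) = 1 := by
      apply Basic.charDegree_of_eq
      rw [h1, Nat.cast_one]
      rfl
    rw [h2]
    exact odd_one
  · have h2 : a (one G) = 1 := by
      have h3 := (ha (one G)).1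
      have h5 : (one G : G → ℂ) z = 1 := rfl
      rw [h5] at h3
      exact_mod_cast h3.symm
    have h6 : a (one G) ^ 2 + a χ ^ 2 ≤ 2 ^ 2 := by
      rw [← hsum, ← Finset.sum_pair (f := fun χ => a χ ^ 2) (Ne.symm h1)]
      apply Finset.sum_le_sum_of_subset_of_nonneg
      · intro ψ hψ
        rw [Finset.mem_insert, Finset.mem_singleton] at hψ
        rw [Finset.mem_filter]
        rcases hψ with rfl | rfl
        · exact ⟨Finset.mem_univ _, one_mem hM G⟩
        · exact ⟨Finset.mem_univ _, hχ⟩
      · intro ψ _ _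
        positivity
    rw [h2] at h6
    have h7 : a χ ≠ 0 := by
      intro h8
      have h9 := (ha χ).1
      rw [h8, Int.cast_zero] at h9
      exact apply_ne_zero hM hc hχ h9
    have h8 : a χ = 1 ∨ a χ = -1 := by
      have h9 : a χ ^ 2 < 4 := by nlinarith
      have h10 : |a χ| < 2 := by
        rw [← sq_lt_sq₀ (abs_nonneg _) (by norm_num), sq_abs]
        linarith
      rw [abs_lt] at h10
      omega
    have h9 := (ha χ).2
    rw [← Nat.not_even_iff_odd, even_iff_two_dvd]
    intro h10
    rcases h8 with h | h <;> rw [h] at h9 <;> omega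

end Cfsg.Agent.H590.OddPrincipal
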