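import Mathlib

/-!
# Groups of automorphisms of order 3 and 9 of a group of order 16

`st A x` is the order of the stabilizer of `x` in `A ≤ Aut P`.
-/

set_option autoImplicit false

namespace Cfsg.Agent.H590.Act16

variable {P : Type*} [Group P]

/-- order of the stabilizer -/
noncomputable def st (A : Subgroup (MulAut P)) (x : P) : ℕ :=
  Nat.card {s : A // (s : MulAut P) x = x}

theorem st_eq (A : Subgroup (MulAut P)) (x : P) : st A x = Nat.card (MulAction.stabilizer A x) :=
  rfl

theorem st_dvd [Finite P] (A : Subgroup (MulAut P)) (x : P) : st A x ∣ Nat.card A := by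
  rw [st_eq]
  exact (MulAction.stabilizer A x).card_subgroup_dvd_card

theorem st_pos [Finite P] (A : Subgroup (MulAut P)) (x : P) : 0 < st A x := by
  rw [st_eq]
  exact Nat.card_pos

theorem st_eq_card_iff [Finite P] (A : Subgroup (MulAut P)) (x : P) :
    st A x = Nat.card A ↔ ∀ s ∈ A, s x = x := by
  rw [st_eq, Subgroup.card_eq_iff_eq_top]
  constructor
  · intro h s hs
    have h1 : (⟨s, hs⟩ : A) ∈ MulAction.stabilizer A x := by rw [h]; trivial
    exact h1
  · intro h
    rw [eq_top_iff]
    rintro ⟨s, hs⟩ -
    exact h s hs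

/-- the fixed points -/
def fix (A : Subgroup (MulAut P)) : Subgroup P where
  carrier := {x | ∀ s ∈ A, s x = x}
  mul_mem' := fun {a b} ha hb s hs => by rw [map_mul, ha s hs, hb s hs]
  one_mem' := fun s _ => map_one s
  inv_mem' := fun {a} ha s hs => by rw [map_inv, ha s hs]

theorem mem_fix {A : Subgroup (MulAut P)} {x : P} : x ∈ fix A ↔ ∀ s ∈ A, s x = x := Iff.rfl

theorem card_fix_mod [Finite P] {A : Subgroup (MulAut P)} (hA : IsPGroup 3 A) :
    Nat.card P ≡ Nat.card (fix A) [MOD 3] := by
  have : Fact (Nat.Prime 3) := ⟨Nat.prime_three⟩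
  have h1 := hA.card_modEq_card_fixedPoints P
  have h2 : Nat.card (MulAction.fixedPoints A P) = Nat.card (fix A) := by
    refine Nat.card_congr (Equiv.subtypeEquivRight fun x => ?_)
    constructor
    · intro h s hs
      exact h ⟨s, hs⟩
    · intro h s
      exact h s s.2
  rw [h2] at h1
  exact h1

theorem fix_ne_top {A : Subgroup (MulAut P)} (hA : A ≠ ⊥) : fix A ≠ ⊤ := by
  intro h
  apply hA
  rw [eq_bot_iff]
  intro s hs
  rw [Subgroup.mem_bot]
  ext x
  have : x ∈ fix A := by rw [h]; trivial
  exact this s hs

/-- fixed points of a 3-group in a group of order 16 -/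
theorem card_fix_cases [Finite P] (hP : Nat.card P = 16) {A : Subgroup (MulAut P)}
    (hA : IsPGroup 3 A) (hA1 : A ≠ ⊥) : Nat.card (fix A) = 1 ∨ Nat.card (fix A) = 4 := by
  have h1 := card_fix_mod hA
  have h2 := (fix A).card_subgroup_dvd_card
  rw [hP] at h1 h2
  have h3 : Nat.card (fix A) ≠ 16 := by
    intro h
    exact fix_ne_top hA1 ((Subgroup.card_eq_iff_eq_top _).1 (h.trans hP.symm))
  have h4 : Nat.card (fix A) ≤ 16 := Nat.le_of_dvd (by norm_num) h2
  unfold Nat.ModEq at h1
  interval_cases h : Nat.card (fix A) <;> omega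

theorem isPGroup_of_card {A : Subgroup (MulAut P)} {k : ℕ} (hA : Nat.card A = 3 ^ k) :
    IsPGroup 3 A := IsPGroup.of_card hA

/-- **Order 3**: exactly 4 fixed points if there is a nontrivial one. -/
theorem card_three [Finite P] (hP : Nat.card P = 16) {A : Subgroup (MulAut P)}
    (hA : Nat.card A = 3) {u : P} (hu : u ≠ 1) (hfix : st A u = 3) :
    Nat.card (fix A) = 4 := by
  have h3 : IsPGroup 3 A := isPGroup_of_card (k := 1) hA
  have hne : A ≠ ⊥ := by
    rintro rfl
    rw [Subgroup.card_bot] at hA
    omega
  rcases card_fix_cases hP h3 hne with h | h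
  · exfalso
    have h1 : u ∈ fix A := by
      rw [← hA, st_eq_card_iff] at hfix
      exact hfix
    rw [Subgroup.card_eq_one] at h
    rw [h, Subgroup.mem_bot] at h1
    exact hu h1
  · exact h

open scoped Classical in
theorem st_of_three [Finite P] {A : Subgroup (MulAut P)} (hA : Nat.card A = 3) (x : P) :
    st A x = if x ∈ fix A then 3 else 1 := by
  split_ifs with h
  · rw [← hA, st_eq_card_iff]
    exact h
  · have h1 := st_dvd A x
    rw [hA, Nat.dvd_prime Nat.prime_three] at h1
    rcases h1 with h1 | h1
    · exact h1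
    · exfalso
      rw [← hA, st_eq_card_iff] at h1
      exact h h1

theorem sum_st [Fintype P] (A : Subgroup (MulAut P)) [Fintype A] :
    ∑ x : P, st A x = ∑ s : A, Nat.card (fix (Subgroup.zpowers (s : MulAut P))) := by
  classical
  have h1 : ∀ x : P, st A x = ∑ s : A, if (s : MulAut P) x = x then 1 else 0 := by
    intro x
    rw [st, Nat.card_eq_fintype_card, Fintype.card_subtype, Finset.card_filter]
  have h2 : ∀ s : A, Nat.card (fix (Subgroup.zpowers (s : MulAut P))) =
      ∑ x : P, if (s : MulAut P) x = x then 1 else 0 := by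
    intro s
    rw [← Finset.card_filter, ← Fintype.card_subtype, ← Nat.card_eq_fintype_card]
    refine Nat.card_congr (Equiv.subtypeEquivRight fun x => ?_)
    rw [mem_fix]
    constructor
    · intro h
      exact h _ (Subgroup.mem_zpowers _)
    · intro h t ht
      have h3 : Subgroup.zpowers (s : MulAut P) ≤ MulAction.stabilizer (MulAut P) x := by
        rw [Subgroup.zpowers_le]
        exact h
      exact h3 ht
  rw [Finset.sum_congr rfl fun x _ => h1 x, Finset.sum_congr rfl fun s _ => h2 s, Finset.sum_comm]

theorem dvd_sum_st [Fintype P] (A : Subgroup (MulAut P)) [Fintype A] :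
    Nat.card A ∣ ∑ x : P, st A x := by
  classical
  have h1 := MulAction.sum_card_fixedBy_eq_card_orbits_mul_card_group A P
  have h2 : ∀ s : A, Nat.card (fix (Subgroup.zpowers (s : MulAut P))) =
      Fintype.card (MulAction.fixedBy P s) := by
    intro s
    rw [← Nat.card_eq_fintype_card]
    refine Nat.card_congr (Equiv.subtypeEquivRight fun x => ?_)
    rw [mem_fix]
    constructor
    · intro h
      exact h _ (Subgroup.mem_zpowers _)
    · intro h t ht
      have h3 : Subgroup.zpowers (s : MulAut P) ≤ MulAction.stabilizer (MulAut P) x := by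
        rw [Subgroup.zpowers_le]
        exact h
      exact h3 ht
  rw [sum_st, Finset.sum_congr rfl fun s _ => h2 s, h1, ← Nat.card_eq_fintype_card (α := A)]
  exact dvd_mul_left _ _

/-- **Order 9.** -/
theorem card_nine [Fintype P] (hP : Nat.card P = 16) {A : Subgroup (MulAut P)}
    (hA : Nat.card A = 9) :
    (∀ x : P, x ≠ 1 → st A x = 1 ∨ st A x = 3) ∧
      Nat.card {x : P // st A x = 1} = 9 ∧ Nat.card {x : P // x ≠ 1 ∧ st A x = 3} = 6 := by
  classical
  have hAf : Finite A := Nat.finite_of_card_ne_zero (by rw [hA]; norm_num)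
  have := Fintype.ofFinite A
  have h3 : IsPGroup 3 A := isPGroup_of_card (k := 2) hA
  have hst : ∀ x : P, st A x = 1 ∨ st A x = 3 ∨ st A x = 9 := by
    intro x
    have h1 := st_dvd A x
    rw [hA] at h1
    have h2 : st A x ≤ 9 := Nat.le_of_dvd (by norm_num) h1
    interval_cases h : st A x <;> omega
  have hone : st A (1 : P) = 9 := by
    rw [← hA, st_eq_card_iff]
    exact fun s _ => map_one s
  set n1 := (Finset.univ.filter fun x : P => x ≠ 1 ∧ st A x = 1).card with hn1
  set n3 := (Finset.univ.filter fun x : P => x ≠ 1 ∧ st A x = 3).card with hn3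
  set n9 := (Finset.univ.filter fun x : P => x ≠ 1 ∧ st A x = 9).card with hn9
  have hsplit : ∀ x : P, (if x = 1 then 1 else 0) + (if x ≠ 1 ∧ st A x = 1 then 1 else 0) +
      (if x ≠ 1 ∧ st A x = 3 then 1 else 0) + (if x ≠ 1 ∧ st A x = 9 then 1 else 0) = 1 := by
    intro x
    by_cases hx : x = 1
    · simp [hx]
    · rcases hst x with h | h | h <;> simp [hx, h]
  have hsplit' : ∀ x : P, st A x = 9 * (if x = 1 then 1 else 0) +
      (if x ≠ 1 ∧ st A x = 1 then 1 else 0) + 3 * (if x ≠ 1 ∧ st A x = 3 then 1 else 0) +
      9 * (if x ≠ 1 ∧ st A x = 9 then 1 else 0) := by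
    intro x
    by_cases hx : x = 1
    · simp [hx, hone]
    · rcases hst x with h | h | h <;> simp [hx, h]
  have hcount : 1 + n1 + n3 + n9 = 16 := by
    have h1 := Finset.sum_congr (rfl : (Finset.univ : Finset P) = Finset.univ)
      fun x _ => hsplit x
    rw [Finset.sum_add_distrib, Finset.sum_add_distrib, Finset.sum_add_distrib,
      ← Finset.card_filter, ← Finset.card_filter, ← Finset.card_filter, ← Finset.card_filter,
      Finset.sum_const, smul_eq_mul, mul_one, Finset.card_univ, ← Nat.card_eq_fintype_card,
      hP] at h1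
    have h2 : (Finset.univ.filter fun x : P => x = 1).card = 1 := by
      rw [Finset.filter_eq' Finset.univ (1 : P), if_pos (Finset.mem_univ _), Finset.card_singleton]
    rw [h2] at h1
    exact h1
  have hsum : ∑ x : P, st A x = 9 + n1 + 3 * n3 + 9 * n9 := by
    rw [Finset.sum_congr rfl fun x _ => hsplit' x, Finset.sum_add_distrib,
      Finset.sum_add_distrib, Finset.sum_add_distrib, ← Finset.mul_sum, ← Finset.mul_sum,
      ← Finset.mul_sum, ← Finset.card_filter, ← Finset.card_filter, ← Finset.card_filter,
      ← Finset.card_filter]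
    have h2 : (Finset.univ.filter fun x : P => x = 1).card = 1 := by
      rw [Finset.filter_eq' Finset.univ (1 : P), if_pos (Finset.mem_univ _), Finset.card_singleton]
    rw [h2, mul_one, hn1, hn3, hn9]
  have hdvd : 9 ∣ ∑ x : P, st A x := hA ▸ dvd_sum_st A
  -- the other count
  set j := (Finset.univ.filter fun s : A => s ≠ 1 ∧
    Nat.card (fix (Subgroup.zpowers (s : MulAut P))) = 4).card with hj
  have hfs : ∀ s : A, Nat.card (fix (Subgroup.zpowers (s : MulAut P))) =
      1 + 15 * (if s = 1 then 1 else 0) +
        3 * (if s ≠ 1 ∧ Nat.card (fix (Subgroup.zpowers (s : MulAut P))) = 4 then 1 else 0) := by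
    intro s
    by_cases hs : s = 1
    · have h1 : fix (Subgroup.zpowers ((s : A) : MulAut P)) = ⊤ := by
        rw [eq_top_iff]
        intro x _ t ht
        rw [hs, OneMemClass.coe_one, Subgroup.zpowers_one_eq_bot, Subgroup.mem_bot] at ht
        rw [ht]
        rfl
      rw [h1, Subgroup.card_top, hP]
      simp [hs]
    · have h4 : IsPGroup 3 (Subgroup.zpowers (s : MulAut P)) := by
        have h5 : Subgroup.zpowers (s : MulAut P) ≤ A := by
          rw [Subgroup.zpowers_le]
          exact s.2
        exact h3.to_le h5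
      have h5 : Subgroup.zpowers (s : MulAut P) ≠ ⊥ := by
        rw [Ne, Subgroup.zpowers_eq_bot]
        intro h
        exact hs (Subtype.ext h)
      rcases card_fix_cases hP h4 h5 with h | h
      · rw [if_neg hs, if_neg (by rintro ⟨-, h6⟩; omega), h]
      · rw [if_neg hs, if_pos ⟨hs, h⟩, h]
  have hsum2 : ∑ x : P, st A x = 24 + 3 * j := by
    rw [sum_st, Finset.sum_congr rfl fun s _ => hfs s, Finset.sum_add_distrib,
      Finset.sum_add_distrib, ← Finset.mul_sum, ← Finset.mul_sum, ← Finset.card_filter,
      ← Finset.card_filter, Finset.sum_const, smul_eq_mul, mul_one, Finset.card_univ,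
      ← Nat.card_eq_fintype_card, hA]
    have h2 : (Finset.univ.filter fun x : A => x = 1).card = 1 := by
      rw [Finset.filter_eq' Finset.univ (1 : A), if_pos (Finset.mem_univ _), Finset.card_singleton]
    rw [h2, ← hj]
    omega
  have hjle : j ≤ 8 := by
    have h1 : (Finset.univ.filter fun s : A => s ≠ 1 ∧
        Nat.card (fix (Subgroup.zpowers (s : MulAut P))) = 4) ⊆ Finset.univ.erase 1 := by
      intro s hs
      rw [Finset.mem_erase]
      exact ⟨(Finset.mem_filter.1 hs).2.1, Finset.mem_univ _⟩
    have h2 := Finset.card_le_card h1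
    rw [Finset.card_erase_of_mem (Finset.mem_univ _), Finset.card_univ,
      ← Nat.card_eq_fintype_card, hA] at h2
    exact h2
  have hfixA : Nat.card (fix A) = 1 + n9 := by
    have h1 : Nat.card (fix A) = (Finset.univ.filter fun x : P => st A x = 9).card := by
      rw [← Fintype.card_subtype, ← Nat.card_eq_fintype_card]
      refine Nat.card_congr (Equiv.subtypeEquivRight fun x => ?_)
      rw [mem_fix, ← st_eq_card_iff, hA]
    have h2 : (Finset.univ.filter fun x : P => st A x = 9) =
        insert 1 (Finset.univ.filter fun x : P => x ≠ 1 ∧ st A x = 9) := by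
      ext x
      simp only [Finset.mem_filter, Finset.mem_univ, true_and, Finset.mem_insert]
      constructor
      · intro h
        by_cases hx : x = 1
        · exact Or.inl hx
        · exact Or.inr ⟨hx, h⟩
      · rintro (h | h)
        · rw [h]
          exact hone
        · exact h.2
    rw [h1, h2, Finset.card_insert_of_notMem (by simp), add_comm]
  have hne : A ≠ ⊥ := by
    rintro rfl
    rw [Subgroup.card_bot] at hA
    omega
  have hcases := card_fix_cases hP h3 hne
  rw [hfixA] at hcases
  rw [hsum] at hsum2 hdvd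
  have hres : n9 = 0 ∧ n3 = 6 ∧ n1 = 9 := by
    rcases hcases with h | h
    · omega
    · omega
  obtain ⟨h9, h3', h1'⟩ := hres
  refine ⟨?_, ?_, ?_⟩
  · intro x hx
    rcases hst x with h | h | h
    · exact Or.inl h
    · exact Or.inr h
    · exfalso
      rw [hn9, Finset.card_eq_zero] at h9
      have : x ∈ (Finset.univ.filter fun x : P => x ≠ 1 ∧ st A x = 9) :=
        Finset.mem_filter.2 ⟨Finset.mem_univ _, hx, h⟩
      rw [h9] at this
      exact absurd this (Finset.notMem_empty _)
  · rw [← h1', hn1, ← Fintype.card_subtype, ← Nat.card_eq_fintype_card]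
    refine Nat.card_congr (Equiv.subtypeEquivRight fun x => ?_)
    constructor
    · intro h
      refine ⟨?_, h⟩
      rintro rfl
      rw [hone] at h
      omega
    · exact fun h => h.2
  · rw [← h3', hn3, ← Fintype.card_subtype, ← Nat.card_eq_fintype_card]

end Cfsg.Agent.H590.Act16
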