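import Mathlib
import Cfsg.Agent.H590.RankSum
import Cfsg.Agent.H590.RankOne
import Cfsg.Agent.H590.Act16
import Cfsg.Agent.Blocks.SylowColumns

/-!
# Stabilizers in the automizer of an abelian Sylow subgroup

`aut P` is the group of automorphisms of `P` induced by `N_G(P)`; `st (aut P) u` the order of the
stabilizer of `u ∈ P`.

* `sum_formula`: `|aut P| k(B₀(G)) = ∑_{u ∈ P} st (aut P) u * l(B₀(C_G(u)))`;
* `card_aut_subtype`: the order of the automizer of `P` in `C_G(u)`;
* `rk_eq_one_iff`: `l(B₀(C_G(u))) = 1` if and only if `st (aut P) u = 1`.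
-/

set_option autoImplicit false

namespace Cfsg.Agent.H590.StLink

open Cfsg Cfsg.Agent Cfsg.Agent.Blocks Cfsg.Agent.H590.RankSum Cfsg.Agent.H590.Act16

variable {M : Ideal AlgInt} {p : ℕ} [hp : Fact p.Prime]
variable {G : Type*} [Group G] [Finite G]

/-- The automizer. -/
noncomputable abbrev aut (P : Sylow p G) : Subgroup (MulAut (P : Subgroup G)) :=
  (P : Subgroup G).normalizerMonoidHom.range

omit hp in
theorem card_aut (P : Sylow p G) : Nat.card (aut P) =
    (Subgroup.centralizer ((P : Subgroup G) : Set G)).relIndex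
      (Subgroup.normalizer ((P : Subgroup G) : Set G)) :=
  SylowColumns.card_range (P : Subgroup G)

omit [Finite G] in
theorem card_mul_relIndex {H K : Subgroup G} (h : H ≤ K) :
    Nat.card H * H.relIndex K = Nat.card K := by
  rw [← Subgroup.relIndex_bot_left, ← Subgroup.relIndex_bot_left,
    Subgroup.relIndex_mul_relIndex _ _ _ bot_le h]

omit [Finite G] in
theorem centralizer_le_normalizer' (P : Subgroup G) :
    Subgroup.centralizer (P : Set G) ≤ Subgroup.normalizer (P : Set G) := by
  intro g hg
  rw [Subgroup.mem_normalizer_iff]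
  intro x
  constructor
  · intro hx
    have h1 := (Subgroup.mem_centralizer_iff.1 hg) x hx
    rw [← h1, mul_inv_cancel_right]
    exact hx
  · intro hx
    have h1 := (Subgroup.mem_centralizer_iff.1 hg) _ hx
    have h2 : g * x * g⁻¹ * g = g * x := by group
    rw [h2] at h1
    have h3 : g * x * g⁻¹ = x := mul_left_cancel h1.symm
    rwa [h3] at hx

omit hp in
theorem card_normalizer (P : Sylow p G) :
    Nat.card ↥(Subgroup.normalizer ((P : Subgroup G) : Set G)) =
      Nat.card ↥(Subgroup.centralizer ((P : Subgroup G) : Set G)) * Nat.card (aut P) := by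
  rw [card_aut, card_mul_relIndex (centralizer_le_normalizer' _)]

omit [Finite G] in
theorem centralizer_le_singleton {P : Subgroup G} {u : G} (hu : u ∈ P) :
    Subgroup.centralizer (P : Set G) ≤ Subgroup.centralizer ({u} : Set G) :=
  Subgroup.centralizer_le (Set.singleton_subset_iff.2 hu)

omit hp [Finite G] in
theorem card_inf (P : Sylow p G) (u : (P : Subgroup G)) :
    Nat.card ↥(Subgroup.normalizer ((P : Subgroup G) : Set G) ⊓
      Subgroup.centralizer ({(u : G)} : Set G)) =
      Nat.card ↥(Subgroup.centralizer ((P : Subgroup G) : Set G)) * st (aut P) u := by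
  set N := Subgroup.normalizer ((P : Subgroup G) : Set G) with hN
  set C := Subgroup.centralizer ((P : Subgroup G) : Set G) with hC
  have hle : C ≤ N ⊓ Subgroup.centralizer ({(u : G)} : Set G) :=
    le_inf (centralizer_le_normalizer' _) (centralizer_le_singleton u.2)
  rw [← card_mul_relIndex hle]
  congr 1
  have h1 : ((N ⊓ Subgroup.centralizer ({(u : G)} : Set G)).subgroupOf N).map
      (P : Subgroup G).normalizerMonoidHom =
      aut P ⊓ MulAction.stabilizer (MulAut (P : Subgroup G)) u := by
    ext s
    constructor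
    · rintro ⟨n, hn, rfl⟩
      refine ⟨⟨n, rfl⟩, ?_⟩
      change (P : Subgroup G).normalizerMonoidHom n u = u
      apply Subtype.ext
      have h2 : (n : G) ∈ Subgroup.centralizer ({(u : G)} : Set G) :=
        (Subgroup.mem_subgroupOf.1 hn).2
      rw [Subgroup.mem_centralizer_singleton_iff] at h2
      rw [SylowColumns.normalizerMonoidHom_coe, h2, Subgroup.coe_inv, mul_inv_cancel_right]
    · rintro ⟨⟨n, rfl⟩, hn⟩
      refine ⟨n, ?_, rfl⟩
      rw [SetLike.mem_coe, Subgroup.mem_subgroupOf]
      refine ⟨n.2, ?_⟩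
      have h2 : (((P : Subgroup G).normalizerMonoidHom n u : (P : Subgroup G)) : G) = u :=
        congrArg Subtype.val hn
      rw [SylowColumns.normalizerMonoidHom_coe, Subgroup.coe_inv, mul_inv_eq_iff_eq_mul] at h2
      exact Subgroup.mem_centralizer_singleton_iff.2 h2
  have h2 : C.relIndex (N ⊓ Subgroup.centralizer ({(u : G)} : Set G)) =
      Nat.card ↥(aut P ⊓ MulAction.stabilizer (MulAut (P : Subgroup G)) u) := by
    rw [← h1, ← Subgroup.relIndex_ker, Subgroup.normalizerMonoidHom_ker,
      Subgroup.relIndex_subgroupOf inf_le_left]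
  rw [h2, st]
  exact Nat.card_congr
    { toFun := fun s => ⟨⟨s, s.2.1⟩, s.2.2⟩
      invFun := fun s => ⟨s, s.1.2, s.2⟩
      left_inv := fun s => rfl
      right_inv := fun s => rfl }

/-- **The number of characters in the principal block.** -/
theorem sum_formula (hM : IsPModular p M) (P : Sylow p G) [Fintype (P : Subgroup G)]
    (hP : ∀ a ∈ (P : Subgroup G), ∀ b ∈ (P : Subgroup G), a * b = b * a) :
    Nat.card (aut P) * Nat.card (principalBlock M G) =
      ∑ u : (P : Subgroup G), st (aut P) u *
        rk p M (Subgroup.centralizer ({(u : G)} : Set G)) := by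
  have h1 := card_mul_card hM P hP
  rw [card_normalizer, mul_assoc] at h1
  have h2 : ∀ u : (P : Subgroup G), Nat.card ↥(Subgroup.normalizer ((P : Subgroup G) : Set G) ⊓
      Subgroup.centralizer ({(u : G)} : Set G)) *
        rk p M (Subgroup.centralizer ({(u : G)} : Set G)) =
      Nat.card ↥(Subgroup.centralizer ((P : Subgroup G) : Set G)) *
        (st (aut P) u * rk p M (Subgroup.centralizer ({(u : G)} : Set G))) := by
    intro u
    rw [card_inf, mul_assoc]
  rw [Finset.sum_congr rfl fun u _ => h2 u, ← Finset.mul_sum] at h1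
  exact Nat.eq_of_mul_eq_mul_left Nat.card_pos h1

omit hp [Finite G] in
/-- The Sylow subgroup in the centralizer of one of its elements. -/
theorem sylow_le (P : Sylow p G)
    (hP : ∀ a ∈ (P : Subgroup G), ∀ b ∈ (P : Subgroup G), a * b = b * a) {u : G}
    (hu : u ∈ (P : Subgroup G)) : (P : Subgroup G) ≤ Subgroup.centralizer ({u} : Set G) := by
  intro x hx
  rw [Subgroup.mem_centralizer_singleton_iff]
  exact hP x hx u hu

/-- The automizer in the centralizer. -/
theorem card_aut_subtype (P : Sylow p G) (u : (P : Subgroup G))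
    (hle : (P : Subgroup G) ≤ Subgroup.centralizer ({(u : G)} : Set G)) :
    Nat.card (aut (P.subtype hle : Sylow p (Subgroup.centralizer ({(u : G)} : Set G)))) =
      st (aut P) u := by
  have h1 := card_normalizer (P.subtype hle : Sylow p (Subgroup.centralizer ({(u : G)} : Set G)))
  have h2 : Nat.card ↥(Subgroup.normalizer
      (((P.subtype hle : Sylow p (Subgroup.centralizer ({(u : G)} : Set G))) :
        Subgroup (Subgroup.centralizer ({(u : G)} : Set G))) :
          Set (Subgroup.centralizer ({(u : G)} : Set G)))) =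
      Nat.card ↥(Subgroup.normalizer ((P : Subgroup G) : Set G) ⊓
        Subgroup.centralizer ({(u : G)} : Set G)) := by
    refine Nat.card_congr
      { toFun := fun x => ⟨((x : Subgroup.centralizer ({(u : G)} : Set G)) : G),
          (mem_normalizer_subgroupOf hle _).1 x.2, (x : Subgroup.centralizer ({(u : G)} : Set G)).2⟩
        invFun := fun x => ⟨⟨x, x.2.2⟩, (mem_normalizer_subgroupOf hle _).2 x.2.1⟩
        left_inv := fun x => rfl
        right_inv := fun x => rfl }
  have h3 : Nat.card ↥(Subgroup.centralizer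
      (((P.subtype hle : Sylow p (Subgroup.centralizer ({(u : G)} : Set G))) :
        Subgroup (Subgroup.centralizer ({(u : G)} : Set G))) :
          Set (Subgroup.centralizer ({(u : G)} : Set G)))) =
      Nat.card ↥(Subgroup.centralizer ((P : Subgroup G) : Set G)) := by
    refine Nat.card_congr
      { toFun := fun x => ⟨((x : Subgroup.centralizer ({(u : G)} : Set G)) : G), ?_⟩
        invFun := fun x => ⟨⟨x, centralizer_le_singleton u.2 x.2⟩, ?_⟩
        left_inv := fun x => rfl
        right_inv := fun x => rfl }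
    · rw [Subgroup.mem_centralizer_iff]
      intro g hg
      exact congrArg Subtype.val ((Subgroup.mem_centralizer_iff.1 x.2) ⟨g, hle hg⟩ hg)
    · rw [Subgroup.mem_centralizer_iff]
      intro g hg
      exact Subtype.ext ((Subgroup.mem_centralizer_iff.1 x.2) g hg)
  rw [h2, h3, card_inf] at h1
  exact (Nat.eq_of_mul_eq_mul_left Nat.card_pos h1).symm

/-- A group with a normal `p`-complement and abelian Sylow subgroup has a trivial automizer. -/
theorem card_aut_eq_one_iff (P : Sylow p G)
    (hP : ∀ a ∈ (P : Subgroup G), ∀ b ∈ (P : Subgroup G), a * b = b * a) :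
    (∃ k : ℕ, (pPrimeCore p G).index = p ^ k) ↔ Nat.card (aut P) = 1 := by
  rw [card_aut, Subgroup.relIndex_eq_one]
  constructor
  · intro h n hn
    rw [Subgroup.mem_centralizer_iff]
    intro x hx
    have hO : Disjoint (P : Subgroup G) (pPrimeCore p G) := by
      apply Subgroup.disjoint_of_coprime_natCard
      obtain ⟨k, hk⟩ := IsPGroup.iff_card.1 P.2
      rw [hk]
      exact Nat.Coprime.pow_left k (Lib.Cores.pPrimeCore_coprime p).symm
    have hxn : n * x * n⁻¹ ∈ (P : Subgroup G) := (Subgroup.mem_normalizer_iff.1 hn x).1 hx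
    -- the commutator lies in the core
    have h1 : n * x * n⁻¹ * x⁻¹ ∈ pPrimeCore p G := by
      have hq : ∀ a b : G ⧸ pPrimeCore p G, a * b = b * a := by
        have hsurj : (P : Subgroup G) ⊔ pPrimeCore p G = ⊤ := by
          rw [← Subgroup.index_eq_one]
          obtain ⟨k, hk⟩ := h
          have h2 : ((P : Subgroup G) ⊔ pPrimeCore p G).index ∣ p ^ k := by
            rw [← hk]
            exact Subgroup.index_dvd_of_le le_sup_right
          obtain ⟨j, -, hj⟩ := (Nat.dvd_prime_pow hp.out).1 h2
          have h3 : ¬ p ∣ ((P : Subgroup G) ⊔ pPrimeCore p G).index := fun hd =>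
            P.not_dvd_index (hd.trans (Subgroup.index_dvd_of_le le_sup_left))
          rw [hj] at h3 ⊢
          rcases Nat.eq_zero_or_pos j with h0 | h0
          · rw [h0, pow_zero]
          · exact absurd (dvd_pow_self p h0.ne') h3
        intro a b
        obtain ⟨a', rfl⟩ := QuotientGroup.mk_surjective a
        obtain ⟨b', rfl⟩ := QuotientGroup.mk_surjective b
        have hrep : ∀ g : G, ∃ y ∈ (P : Subgroup G), (QuotientGroup.mk g : G ⧸ pPrimeCore p G) =
            QuotientGroup.mk y := by
          intro g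
          have hg : g ∈ (P : Subgroup G) ⊔ pPrimeCore p G := by rw [hsurj]; trivial
          obtain ⟨y, hy, z, hz, rfl⟩ := (Subgroup.mem_sup_of_normal_right).1 hg
          refine ⟨y, hy, ?_⟩
          rw [QuotientGroup.eq]
          have : (y * z)⁻¹ * y = z⁻¹ := by group
          rw [this]
          exact inv_mem hz
        obtain ⟨y, hy, h4⟩ := hrep a'
        obtain ⟨z, hz, h5⟩ := hrep b'
        rw [h4, h5, ← QuotientGroup.mk_mul, ← QuotientGroup.mk_mul, hP y hy z hz]
      rw [← QuotientGroup.eq_one_iff]
      rw [QuotientGroup.mk_mul, QuotientGroup.mk_mul, QuotientGroup.mk_mul,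
        hq (QuotientGroup.mk n) (QuotientGroup.mk x), QuotientGroup.mk_inv, QuotientGroup.mk_inv,
        mul_inv_cancel_right, mul_inv_cancel]
    have h2 : n * x * n⁻¹ * x⁻¹ ∈ (P : Subgroup G) := mul_mem hxn (inv_mem hx)
    have h3 := Subgroup.disjoint_def.1 hO h2 h1
    rw [mul_inv_eq_one, mul_inv_eq_iff_eq_mul] at h3
    exact h3.symm
  · exact SylowColumns.exists_index_pPrimeCore P

theorem rk_eq_one_iff (hM : IsPModular p M) (P : Sylow p G)
    (hP : ∀ a ∈ (P : Subgroup G), ∀ b ∈ (P : Subgroup G), a * b = b * a) (u : (P : Subgroup G)) :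
    rk p M (Subgroup.centralizer ({(u : G)} : Set G)) = 1 ↔ st (aut P) u = 1 := by
  have hle := sylow_le P hP u.2
  have hP' : ∀ a ∈ ((P.subtype hle : Sylow p _) : Subgroup (Subgroup.centralizer ({(u : G)} : Set G))),
      ∀ b ∈ ((P.subtype hle : Sylow p _) : Subgroup (Subgroup.centralizer ({(u : G)} : Set G))),
      a * b = b * a := by
    intro a ha b hb
    rw [Sylow.coe_subtype, Subgroup.mem_subgroupOf] at ha hb
    exact Subtype.ext (hP a ha b hb)
  rw [← card_aut_subtype P u hle, ← card_aut_eq_one_iff _ hP', rk_def]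
  exact ⟨RankOne.exists_index hM, RankOne.blockRank_eq_one hM⟩

theorem two_le_blockRank (hM : IsPModular p M) (P : Sylow p G)
    (hP : ∀ a ∈ (P : Subgroup G), ∀ b ∈ (P : Subgroup G), a * b = b * a)
    (h : Nat.card (aut P) ≠ 1) : 2 ≤ blockRank p (principalBlock M G) := by
  have h1 := RankOne.blockRank_pos hM G
  have h2 : blockRank p (principalBlock M G) ≠ 1 := by
    intro h3
    exact h ((card_aut_eq_one_iff P hP).1 (RankOne.exists_index hM h3))
  omega

omit hp [Finite G] in
theorem rk_centralizer_of_center {u : G} (hu : u ∈ Subgroup.center G) :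
    rk p M (Subgroup.centralizer ({u} : Set G)) = blockRank p (principalBlock M G) := by
  have h1 : Subgroup.centralizer ({u} : Set G) = ⊤ := by
    rw [eq_top_iff]
    intro g _
    rw [Subgroup.mem_centralizer_singleton_iff]
    exact Subgroup.mem_center_iff.1 hu g
  rw [rk_def, h1]
  exact rank_congr Subgroup.topEquiv

end Cfsg.Agent.H590.StLink
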