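import Mathlib
import Cfsg.Agent.H590.StLink
import Cfsg.Agent.H590.OddCount

/-!
# Principal 2-blocks with elementary abelian Sylow 2-subgroups of order 16

`rank_three`: automizer of order 3, a central involution: `l(B₀) = 3`.
`main`: automizer of order 9: `k(B₀) = 16`, `l(B₀) = 9`.
-/

set_option autoImplicit false

namespace Cfsg.Agent.H590.Sixteen

open Cfsg Cfsg.Agent Cfsg.Agent.Blocks Cfsg.Agent.H590.RankSum Cfsg.Agent.H590.Act16
open Cfsg.Agent.H590.StLink

universe u

variable {M : Ideal AlgInt}

theorem comm_of_sq {G : Type*} [Group G] {P : Subgroup G} (h : ∀ x ∈ P, x * x = 1) :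
    ∀ a ∈ P, ∀ b ∈ P, a * b = b * a := by
  intro a ha b hb
  have h1 : (a * b) * (a * b) = 1 := h _ (mul_mem ha hb)
  have h2 : a⁻¹ = a := inv_eq_of_mul_eq_one_left (h a ha)
  have h3 : b⁻¹ = b := inv_eq_of_mul_eq_one_left (h b hb)
  calc a * b = (a * b)⁻¹ := (inv_eq_of_mul_eq_one_left h1).symm
    _ = b⁻¹ * a⁻¹ := mul_inv_rev a b
    _ = b * a := by rw [h2, h3]

/-- The possible values of `k(B₀)`. -/
theorem card_cases (hM : IsPModular 2 M) (hstep : Walter.Main.Step.{u}) {G : Type u} [Group G]
    [Finite G] (P : Sylow 2 G) (hcard : Nat.card (P : Subgroup G) = 16)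
    (hP : ∀ x ∈ (P : Subgroup G), x * x = 1) {x : (P : Subgroup G)} (hx1 : x ≠ 1)
    (hx : st (aut P) x = 1) :
    Nat.card (principalBlock M G) = 8 ∨ Nat.card (principalBlock M G) = 16 := by
  have hfact : Fact (Nat.Prime 2) := ⟨Nat.prime_two⟩
  have hx2 : orderOf (x : G) = 2 := by
    apply orderOf_eq_prime
    · rw [pow_two]
      exact hP x x.2
    · intro h
      exact hx1 (Subtype.ext h)
  have hnil : ∃ k : ℕ, (pPrimeCore 2 (Subgroup.centralizer ({(x : G)} : Set G))).index = 2 ^ k :=
    RankOne.exists_index hM ((rk_eq_one_iff hM P (comm_of_sq hP) x).2 hx)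
  obtain ⟨h1, h2⟩ := OddCount.card_principal hM hstep P (comm_of_sq hP) hx2 hnil
  have hpos : 0 < Nat.card (principalBlock M G) := by
    have := Characters.Core.finite_irr (G := G)
    have : Nonempty (principalBlock M G) := ⟨⟨_, OddPrincipal.one_mem hM G⟩⟩
    exact Nat.card_pos
  rw [hcard] at h1 h2
  omega

/-- The centralizer inherits the hypotheses. -/
theorem subtype_facts {G : Type u} [Group G] [Finite G] (P : Sylow 2 G)
    (hcard : Nat.card (P : Subgroup G) = 16) (hP : ∀ x ∈ (P : Subgroup G), x * x = 1)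
    {H : Subgroup G} (hle : (P : Subgroup G) ≤ H) :
    Nat.card ((P.subtype hle : Sylow 2 H) : Subgroup H) = 16 ∧
      ∀ x ∈ ((P.subtype hle : Sylow 2 H) : Subgroup H), x * x = 1 := by
  constructor
  · rw [Sylow.coe_subtype, ← hcard]
    exact Nat.card_congr (Subgroup.subgroupOfEquivOfLe hle).toEquiv
  · intro x hx
    rw [Sylow.coe_subtype, Subgroup.mem_subgroupOf] at hx
    exact Subtype.ext (hP x hx)

theorem mem_fix_of_center {G : Type u} [Group G] [Finite G] (P : Sylow 2 G)
    {u : (P : Subgroup G)} (hu : (u : G) ∈ Subgroup.center G) : u ∈ fix (aut P) := by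
  rw [mem_fix]
  rintro _ ⟨n, rfl⟩
  apply Subtype.ext
  rw [SylowColumns.normalizerMonoidHom_coe]
  have h1 : (n : G) * u = u * n := (Subgroup.mem_center_iff.1 hu) n
  rw [h1, Subgroup.coe_inv, mul_inv_cancel_right]

/-- A subgroup of order 4 containing two different involutions. -/
theorem eq_four {V : Type*} [Group V] {F : Subgroup V} (hF : Nat.card F = 4) {u w : V}
    (hu : u ∈ F) (hw : w ∈ F) (hu1 : u ≠ 1) (hw1 : w ≠ 1) (huw : u ≠ w) (huu : u * u = 1)
    {v : V} : v ∈ F ↔ v = 1 ∨ v = u ∨ v = w ∨ v = u * w := by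
  classical
  have hfin : Finite F := Nat.finite_of_card_ne_zero (by rw [hF]; norm_num)
  have hft := Fintype.ofFinite F
  have h1 : ({1, ⟨u, hu⟩, ⟨w, hw⟩, ⟨u * w, mul_mem hu hw⟩} : Finset F) = Finset.univ := by
    rw [← Finset.card_eq_iff_eq_univ, ← Nat.card_eq_fintype_card, hF]
    have huw1 : u * w ≠ 1 := by
      intro h
      apply huw
      calc u = u * (u * w) := by rw [h, mul_one]
        _ = (u * u) * w := by group
        _ = w := by rw [huu, one_mul]
    rw [Finset.card_insert_of_notMem, Finset.card_insert_of_notMem,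
      Finset.card_insert_of_notMem, Finset.card_singleton]
    · rw [Finset.mem_singleton]
      intro h
      have h2 : w = u * w := congrArg Subtype.val h
      exact hu1 (mul_eq_right.1 h2.symm)
    · rw [Finset.mem_insert, Finset.mem_singleton, not_or]
      constructor
      · intro h
        exact huw (congrArg Subtype.val h)
      · intro h
        have h2 : u = u * w := congrArg Subtype.val h
        exact hw1 (mul_eq_left.1 h2.symm)
    · rw [Finset.mem_insert, Finset.mem_insert, Finset.mem_singleton, not_or, not_or]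
      refine ⟨?_, ?_, ?_⟩
      · intro h
        exact hu1 (congrArg Subtype.val h).symm
      · intro h
        exact hw1 (congrArg Subtype.val h).symm
      · intro h
        exact huw1 (congrArg Subtype.val h).symm
  constructor
  · intro hv
    have h2 : (⟨v, hv⟩ : F) ∈ (Finset.univ : Finset F) := Finset.mem_univ _
    rw [← h1] at h2
    simpa [Subtype.ext_iff] using h2
  · rintro (h | h | h | h) <;> rw [h]
    · exact one_mem _
    · exact hu
    · exact hw
    · exact mul_mem hu hw

/-- Sum over `P` for an automizer of order 3. -/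
theorem sum_three {G : Type u} [Group G] [Finite G] (hM : IsPModular 2 M) (P : Sylow 2 G)
    (hP : ∀ x ∈ (P : Subgroup G), x * x = 1)
    (hcard : Nat.card (P : Subgroup G) = 16) (h3 : Nat.card (aut P) = 3)
    (hfix : Nat.card (fix (aut P)) = 4) {u w : (P : Subgroup G)} (hu : u ∈ fix (aut P))
    (hw : w ∈ fix (aut P)) (hu1 : u ≠ 1) (hw1 : w ≠ 1) (huw : u ≠ w) :
    Nat.card (principalBlock M G) = rk 2 M (Subgroup.centralizer ({(1 : G)} : Set G)) +
      rk 2 M (Subgroup.centralizer ({(u : G)} : Set G)) +
      rk 2 M (Subgroup.centralizer ({(w : G)} : Set G)) +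
      rk 2 M (Subgroup.centralizer ({((u * w : (P : Subgroup G)) : G)} : Set G)) + 4 := by
  classical
  have hfact : Fact (Nat.Prime 2) := ⟨Nat.prime_two⟩
  have := Fintype.ofFinite (P : Subgroup G)
  have h1 := sum_formula hM P (comm_of_sq hP)
  have huu : u * u = 1 := Subtype.ext (hP u u.2)
  have hmem : ∀ v : (P : Subgroup G), v ∈ fix (aut P) ↔ v = 1 ∨ v = u ∨ v = w ∨ v = u * w :=
    fun v => eq_four hfix hu hw hu1 hw1 huw huu
  have h2 : ∀ v : (P : Subgroup G), st (aut P) v *
      rk 2 M (Subgroup.centralizer ({(v : G)} : Set G)) =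
      if v ∈ fix (aut P) then 3 * rk 2 M (Subgroup.centralizer ({(v : G)} : Set G)) else 1 := by
    intro v
    rw [st_of_three h3]
    by_cases hv : v ∈ fix (aut P)
    · rw [if_pos hv, if_pos hv]
    · rw [if_neg hv, if_neg hv, one_mul, rk_eq_one_iff hM P (comm_of_sq hP), st_of_three h3,
        if_neg hv]
  rw [Finset.sum_congr rfl fun v _ => h2 v, Finset.sum_ite, Finset.sum_const, smul_eq_mul,
    mul_one, h3] at h1
  have h4 : (Finset.univ.filter fun v : (P : Subgroup G) => v ∈ fix (aut P)) =
      {1, u, w, u * w} := by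
    ext v
    rw [Finset.mem_filter, hmem]
    simp
  have hc1 : (Finset.univ.filter fun v : (P : Subgroup G) => v ∈ fix (aut P)).card = 4 := by
    rw [← Fintype.card_subtype, ← Nat.card_eq_fintype_card]
    exact hfix
  have hc2 : (Finset.univ.filter fun v : (P : Subgroup G) => v ∉ fix (aut P)).card = 12 := by
    have h5 := Finset.card_filter_add_card_filter_not (s := (Finset.univ : Finset (P : Subgroup G)))
      (fun v : (P : Subgroup G) => v ∈ fix (aut P))
    rw [hc1, Finset.card_univ, ← Nat.card_eq_fintype_card, hcard] at h5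
    omega
  have huw1 : u * w ≠ 1 := by
    intro h
    apply huw
    calc u = u * (u * w) := by rw [h, mul_one]
      _ = (u * u) * w := by group
      _ = w := by rw [huu, one_mul]
  rw [hc2, h4, Finset.sum_insert, Finset.sum_insert, Finset.sum_insert, Finset.sum_singleton] at h1
  · have h6 : ((1 : (P : Subgroup G)) : G) = 1 := rfl
    rw [h6] at h1
    omega
  · rw [Finset.mem_singleton]
    intro h
    exact hu1 (mul_eq_right.1 h.symm)
  · rw [Finset.mem_insert, Finset.mem_singleton, not_or]
    exact ⟨huw, fun h => hw1 (mul_eq_left.1 h.symm)⟩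
  · rw [Finset.mem_insert, Finset.mem_insert, Finset.mem_singleton, not_or, not_or]
    exact ⟨hu1.symm, hw1.symm, huw1.symm⟩

theorem exists_st_one {G : Type u} [Group G] [Finite G] (P : Sylow 2 G)
    (hcard : Nat.card (P : Subgroup G) = 16) (h3 : Nat.card (aut P) = 3)
    (hfix : Nat.card (fix (aut P)) = 4) : ∃ x : (P : Subgroup G), x ≠ 1 ∧ st (aut P) x = 1 := by
  classical
  by_contra hcon
  push Not at hcon
  have h1 : fix (aut P) = ⊤ := by
    rw [eq_top_iff]
    intro x _
    by_contra hx
    have h2 : x ≠ 1 := by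
      rintro rfl
      exact hx (one_mem _)
    exact hcon x h2 (by rw [st_of_three h3, if_neg hx])
  rw [h1, Subgroup.card_top, hcard] at hfix
  omega

/-- Two central involutions. -/
theorem rank_three_aux (hM : IsPModular 2 M) (hstep : Walter.Main.Step.{u}) {G : Type u} [Group G]
    [Finite G] (P : Sylow 2 G) (hcard : Nat.card (P : Subgroup G) = 16)
    (hP : ∀ x ∈ (P : Subgroup G), x * x = 1) (h3 : Nat.card (aut P) = 3)
    {u w : (P : Subgroup G)} (hu : (u : G) ∈ Subgroup.center G)
    (hw : (w : G) ∈ Subgroup.center G) (hu1 : u ≠ 1) (hw1 : w ≠ 1) (huw : u ≠ w) :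
    blockRank 2 (principalBlock M G) = 3 := by
  have hfact : Fact (Nat.Prime 2) := ⟨Nat.prime_two⟩
  have hstu : st (aut P) u = 3 := by
    rw [← h3, st_eq_card_iff]
    exact mem_fix_of_center P hu
  have hfix := card_three hcard h3 hu1 hstu
  have h1 := sum_three hM P hP hcard h3 hfix (mem_fix_of_center P hu) (mem_fix_of_center P hw)
    hu1 hw1 huw
  have huw' : ((u * w : (P : Subgroup G)) : G) ∈ Subgroup.center G := mul_mem hu hw
  rw [rk_centralizer_of_center (one_mem _), rk_centralizer_of_center hu,
    rk_centralizer_of_center hw, rk_centralizer_of_center huw'] at h1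
  obtain ⟨x, hx1, hx⟩ := exists_st_one P hcard h3 hfix
  have h2 := card_cases hM hstep P hcard hP hx1 hx
  have h4 := two_le_blockRank hM P (comm_of_sq hP) (by rw [h3]; norm_num)
  omega

/-- One central involution. -/
theorem rank_three (hM : IsPModular 2 M) (hstep : Walter.Main.Step.{u}) {G : Type u} [Group G]
    [Finite G] (P : Sylow 2 G) (hcard : Nat.card (P : Subgroup G) = 16)
    (hP : ∀ x ∈ (P : Subgroup G), x * x = 1) (h3 : Nat.card (aut P) = 3)
    {u : (P : Subgroup G)} (hu : (u : G) ∈ Subgroup.center G) (hu1 : u ≠ 1) :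
    blockRank 2 (principalBlock M G) = 3 := by
  have hfact : Fact (Nat.Prime 2) := ⟨Nat.prime_two⟩
  have hstu : st (aut P) u = 3 := by
    rw [← h3, st_eq_card_iff]
    exact mem_fix_of_center P hu
  have hfix := card_three hcard h3 hu1 hstu
  have huf := mem_fix_of_center P hu
  -- another fixed element
  obtain ⟨w, hwf, hw1, huw⟩ : ∃ w ∈ fix (aut P), w ≠ 1 ∧ u ≠ w := by
    by_contra hcon
    push Not at hcon
    have h4 : fix (aut P) ≤ Subgroup.zpowers u := by
      intro w hw
      by_cases hw1 : w = 1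
      · rw [hw1]
        exact one_mem _
      · rw [← hcon w hw hw1]
        exact Subgroup.mem_zpowers _
    have h5 := Subgroup.card_le_of_le h4
    have h6 : orderOf u ≤ 2 := orderOf_le_of_pow_eq_one (by norm_num)
      (Subtype.ext (by rw [pow_two]; exact hP u u.2))
    rw [Nat.card_zpowers, hfix] at h5
    omega
  have h1 := sum_three hM P hP hcard h3 hfix huf hwf hu1 hw1 huw
  -- the centralizer of `w`
  have hle := sylow_le P (comm_of_sq hP) w.2
  obtain ⟨hcard', hP'⟩ := subtype_facts P hcard hP hle
  have h3' : Nat.card (aut (P.subtype hle : Sylow 2 (Subgroup.centralizer ({(w : G)} : Set G)))) =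
      3 := by
    rw [card_aut_subtype, ← h3, st_eq_card_iff]
    exact hwf
  have hrw : rk 2 M (Subgroup.centralizer ({(w : G)} : Set G)) = 3 := by
    refine rank_three_aux hM hstep (P.subtype hle) hcard' hP' h3' (u := ⟨⟨u, hle u.2⟩, u.2⟩)
      (w := ⟨⟨w, hle w.2⟩, w.2⟩) ?_ ?_ ?_ ?_ ?_
    · rw [Subgroup.mem_center_iff]
      intro g
      exact Subtype.ext ((Subgroup.mem_center_iff.1 hu) g)
    · rw [Subgroup.mem_center_iff]
      intro g
      exact Subtype.ext (Subgroup.mem_centralizer_singleton_iff.1 g.2)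
    · intro h
      exact hu1 (Subtype.ext (congrArg (fun z => ((z : Subgroup.centralizer ({(w : G)} : Set G)) : G))
        (congrArg Subtype.val h)))
    · intro h
      exact hw1 (Subtype.ext (congrArg (fun z => ((z : Subgroup.centralizer ({(w : G)} : Set G)) : G))
        (congrArg Subtype.val h)))
    · intro h
      exact huw (Subtype.ext (congrArg (fun z => ((z : Subgroup.centralizer ({(w : G)} : Set G)) : G))
        (congrArg Subtype.val h)))
  have hcuw : Subgroup.centralizer ({((u * w : (P : Subgroup G)) : G)} : Set G) =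
      Subgroup.centralizer ({(w : G)} : Set G) := by
    ext g
    rw [Subgroup.mem_centralizer_singleton_iff, Subgroup.mem_centralizer_singleton_iff]
    have h5 : g * (u : G) = u * g := (Subgroup.mem_center_iff.1 hu) g
    have h6 : ((u * w : (P : Subgroup G)) : G) = (u : G) * w := rfl
    rw [h6, ← mul_assoc, h5, mul_assoc, mul_assoc]
    exact ⟨fun h => mul_left_cancel h, fun h => by rw [h]⟩
  rw [hcuw, hrw, rk_centralizer_of_center (one_mem _), rk_centralizer_of_center hu] at h1
  obtain ⟨x, hx1, hx⟩ := exists_st_one P hcard h3 hfix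
  have h2 := card_cases hM hstep P hcard hP hx1 hx
  have h4 := two_le_blockRank hM P (comm_of_sq hP) (by rw [h3]; norm_num)
  omega

/-- **Automizer of order 9.** -/
theorem main (hM : IsPModular 2 M) (hstep : Walter.Main.Step.{u}) {G : Type u} [Group G]
    [Finite G] (P : Sylow 2 G) (hcard : Nat.card (P : Subgroup G) = 16)
    (hP : ∀ x ∈ (P : Subgroup G), x * x = 1) (h9 : Nat.card (aut P) = 9) :
    Nat.card (principalBlock M G) = 16 ∧ blockRank 2 (principalBlock M G) = 9 := by
  classical
  have hfact : Fact (Nat.Prime 2) := ⟨Nat.prime_two⟩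
  have := Fintype.ofFinite (P : Subgroup G)
  obtain ⟨hst, hn1, hn3⟩ := card_nine hcard h9
  have h1 := sum_formula hM P (comm_of_sq hP)
  have hone : st (aut P) (1 : (P : Subgroup G)) = 9 := by
    rw [← h9, st_eq_card_iff]
    exact fun s _ => map_one s
  -- the ranks
  have hrk : ∀ v : (P : Subgroup G), v ≠ 1 → st (aut P) v = 3 →
      rk 2 M (Subgroup.centralizer ({(v : G)} : Set G)) = 3 := by
    intro v hv1 hv
    have hle := sylow_le P (comm_of_sq hP) v.2
    obtain ⟨hcard', hP'⟩ := subtype_facts P hcard hP hle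
    refine rank_three hM hstep (P.subtype hle) hcard' hP' (by rw [card_aut_subtype, hv])
      (u := ⟨⟨v, hle v.2⟩, v.2⟩) ?_ ?_
    · rw [Subgroup.mem_center_iff]
      intro g
      exact Subtype.ext (Subgroup.mem_centralizer_singleton_iff.1 g.2)
    · intro h
      exact hv1 (Subtype.ext (congrArg (fun z => ((z : Subgroup.centralizer ({(v : G)} : Set G)) : G))
        (congrArg Subtype.val h)))
  have h2 : ∀ v : (P : Subgroup G), st (aut P) v *
      rk 2 M (Subgroup.centralizer ({(v : G)} : Set G)) =
      (if v = 1 then 9 * blockRank 2 (principalBlock M G) else 0) +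
        ((if st (aut P) v = 1 then 1 else 0) + (if v ≠ 1 ∧ st (aut P) v = 3 then 9 else 0)) := by
    intro v
    by_cases hv : v = 1
    · have h5 : ((1 : (P : Subgroup G)) : G) = 1 := rfl
      rw [hv, hone, h5, rk_centralizer_of_center (one_mem _)]
      simp
    · rcases hst v hv with h | h
      · rw [(rk_eq_one_iff hM P (comm_of_sq hP) v).2 h, h]
        simp [hv]
      · rw [hrk v hv h, h]
        simp [hv]
  rw [Finset.sum_congr rfl fun v _ => h2 v, Finset.sum_add_distrib, Finset.sum_add_distrib,
    Finset.sum_ite_eq' Finset.univ (1 : (P : Subgroup G)), if_pos (Finset.mem_univ _),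
    ← Finset.sum_filter, ← Finset.sum_filter, Finset.sum_const, Finset.sum_const, smul_eq_mul,
    smul_eq_mul, ← Fintype.card_subtype, ← Fintype.card_subtype, ← Nat.card_eq_fintype_card,
    ← Nat.card_eq_fintype_card, hn1, hn3, h9] at h1
  obtain ⟨x, hx⟩ : ∃ x : (P : Subgroup G), st (aut P) x = 1 := by
    by_contra hcon
    push Not at hcon
    have : IsEmpty {x : (P : Subgroup G) // st (aut P) x = 1} := ⟨fun x => hcon x.1 x.2⟩
    rw [Nat.card_of_isEmpty] at hn1
    omega
  have hx1 : x ≠ 1 := by
    rintro rfl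
    rw [hone] at hx
    omega
  have h4 := card_cases hM hstep P hcard hP hx1 hx
  have h5 := two_le_blockRank hM P (comm_of_sq hP) (by rw [h9]; norm_num)
  omega

end Cfsg.Agent.H590.Sixteen
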